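import Cfsg.Agent.H738.E83.Sem

/-!
# The cubes of the fixed vectors of the two `A₅` (helper738, S5925 box L)
-/

set_option autoImplicit false
set_option maxRecDepth 100000

namespace Cfsg.Agent.H738.E83

open Matrix Cfsg Cfsg.Lie
open Cfsg.Agent.ChevalleyStructure Cfsg.Agent.ChevalleyStructure.JacTab Cfsg.Agent.ChevalleyStructure.JacDataE8
open Cfsg.Agent.H64.E83 (L3 mx er vec vec_nil vec_cons vec_append vec_smul eqv vec_eq er_eq)

/-- the cube of the adjoint operator -/
noncomputable def cu (v w : L3) : L3 := br v (br v (br v w))

/-- `q_I` -/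
def wI : List (ℕ × Bool) := [(52, true), (63, true), (68, true), (74, true)]

/-- the second vector `q_I'` -/
def wI' : List (ℕ × Bool) := [(30, false), (31, true), (32, true), (33, true), (34, false), (40, true), (41, true),
  (42, false), (43, true), (44, true), (46, false), (47, false), (48, true), (49, false), (50, false), (51, true),
  (56, false), (57, true), (59, true), (61, false), (200, false), (201, false), (203, false), (210, false),
  (212, false), (214, true), (215, true), (217, false), (219, false), (220, false), (221, false), (222, true)]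

/-- `q_II` -/
def wII : List (ℕ × Bool) := [(14, true), (127, false), (133, true), (140, false), (165, true), (171, true),
  (176, true), (187, true)]

/-- the second vector `q_II'` -/
def wII' : List (ℕ × Bool) := [(10, true), (11, false), (13, true), (17, true), (18, true), (19, false), (22, true),
  (24, false), (25, false), (26, true), (27, true), (28, false), (29, true), (36, true), (37, false), (39, true),
  (157, false), (158, true), (159, false), (161, false), (178, false), (179, false), (180, true), (181, false),
  (182, true), (183, false), (189, true), (190, false), (192, true), (195, false), (196, false), (197, true),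
  (198, true), (205, true), (206, false), (207, true), (209, true)]

/-- negation of a list -/
def nl (w : List (ℕ × Bool)) : List (ℕ × Bool) := w.map fun l => (l.1, !l.2)

theorem sem_cu {w : List (ℕ × Bool)} (hw : okw w = true) {S : St} {v : ℕ → ZMod 3} {u : L3} (h : Sem S v u) :
    Sem (aw rows w (aw rows w (aw rows w S))) v (cu (vb w) u) :=
  ((h.aw hw).aw hw).aw hw

theorem cube_I (u : L3) : cu (vb wI) u = 0 :=
  (sem_cu (w := wI) (by decide +kernel) (sem_id u)).eq_zero (by decide +kernel)

theorem cube_II (u : L3) : cu (vb wII) u = 0 :=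
  (sem_cu (w := wII) (by decide +kernel) (sem_id u)).eq_zero (by decide +kernel)

theorem cu_smul (d : ZMod 3) (v u : L3) : cu (d • v) u = (d ^ 3) • cu v u := by
  unfold cu
  rw [br_smul_left, br_smul_left, br_smul_left, br_smul_right, br_smul_right, smul_smul, br_smul_right, smul_smul]
  congr 1
  ring

theorem cu_smul_right (d : ZMod 3) (v u : L3) : cu v (d • u) = d • cu v u := by
  unfold cu
  rw [br_smul_right, br_smul_right, br_smul_right]

theorem vb_append (w w' : List (ℕ × Bool)) : vb (w ++ w') = vb w + vb w' := by
  unfold vb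
  rw [List.map_append, vec_append]

theorem vb_nl (w : List (ℕ × Bool)) : vb (nl w) = -vb w := by
  induction w with
  | nil => show (0 : L3) = -0; rw [neg_zero]
  | cons l w ih =>
    have h : nl (l :: w) = (l.1, !l.2) :: nl w := rfl
    rw [h, vb_cons, vb_cons, ih]
    obtain ⟨r, c⟩ := l
    cases c <;> simp [add_comm]

theorem zmod3 (c : ZMod 3) : c = 0 ∨ c = 1 ∨ c = -1 := by revert c; decide

/-- the three combinations -/
theorem three {w w' : List (ℕ × Bool)} {u : L3} (h0 : cu (vb w') u ≠ 0) (h1 : cu (vb (w' ++ w)) u ≠ 0)
    (h2 : cu (vb (w' ++ nl w)) u ≠ 0) {c d : ZMod 3} (hd : d ≠ 0) : cu (c • vb w + d • vb w') u ≠ 0 := by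
  have key : ∀ c : ZMod 3, cu (c • vb w + vb w') u ≠ 0 := by
    intro c
    rcases zmod3 c with rfl | rfl | rfl
    · rw [zero_smul, zero_add]; exact h0
    · rw [one_smul, add_comm, ← vb_append]; exact h1
    · rw [neg_smul, one_smul, ← vb_nl, add_comm, ← vb_append]; exact h2
  have e : c • vb w + d • vb w' = d • ((d * c) • vb w + vb w') := by
    rw [smul_add, smul_smul]
    congr 2
    revert d c; decide
  rw [e, cu_smul]
  have hd3 : d ^ 3 ≠ 0 := pow_ne_zero 3 hd
  exact smul_ne_zero hd3 (key _)

theorem er_vb (r : ℕ) : vb [(r, true)] = er r := by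
  rw [vb_cons]
  have : vb [] = 0 := rfl
  rw [this, add_zero]
  rfl

theorem sem_er {r : ℕ} (hr : okw [(r, true)] = true) : Sem (vs [(r, true)]) d0 (er r) := by
  have h := sem_vs hr
  rw [er_vb] at h
  exact h

theorem ncube_I {c d : ZMod 3} (hd : d ≠ 0) : cu (c • vb wI + d • vb wI') (er 14) ≠ 0 :=
  three ((sem_cu (w := wI') (by decide +kernel) (sem_er (by decide +kernel))).ne_zero (by decide +kernel))
    ((sem_cu (w := wI' ++ wI) (by decide +kernel) (sem_er (by decide +kernel))).ne_zero (by decide +kernel))
    ((sem_cu (w := wI' ++ nl wI) (by decide +kernel) (sem_er (by decide +kernel))).ne_zero (by decide +kernel)) hd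

theorem ncube_II {c d : ZMod 3} (hd : d ≠ 0) : cu (c • vb wII + d • vb wII') (er 0) ≠ 0 :=
  three ((sem_cu (w := wII') (by decide +kernel) (sem_er (by decide +kernel))).ne_zero (by decide +kernel))
    ((sem_cu (w := wII' ++ wII) (by decide +kernel) (sem_er (by decide +kernel))).ne_zero (by decide +kernel))
    ((sem_cu (w := wII' ++ nl wII) (by decide +kernel) (sem_er (by decide +kernel))).ne_zero (by decide +kernel)) hd

/-- equivariance of the cube -/
theorem mx_cu (g : ↥(chevE8.group (ZMod 3))) (v u : L3) : mx g *ᵥ cu v u = cu (mx g *ᵥ v) (mx g *ᵥ u) := by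
  unfold cu
  rw [mx_br, mx_br, mx_br]

end Cfsg.Agent.H738.E83
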