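import Cfsg.Agent.H738.E83.Eng
import Cfsg.Agent.H64.E83.Act
import Cfsg.Agent.ChevalleyStructure.JacAll

/-!
# The kernel engine and the Lie algebra of `E₈` over `𝔽₃` (helper738)

`Sem S v u` : the state `S` evaluated at `v` is the vector `u`.
-/

set_option autoImplicit false
set_option maxRecDepth 100000

namespace Cfsg.Agent.H738.E83

open Matrix Cfsg Cfsg.Lie
open Cfsg.Agent.ChevalleyStructure Cfsg.Agent.ChevalleyStructure.JacTab Cfsg.Agent.ChevalleyStructure.JacBridge
  Cfsg.Agent.ChevalleyStructure.JacMain Cfsg.Agent.ChevalleyStructure.JacDataE8 Cfsg.Agent.ChevalleyStructure.LieAbs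
  Cfsg.Agent.ChevalleyStructure.LieAut
open Cfsg.Agent.H64.E83 (L3 mx er vec vec_nil vec_cons vec_append vec_smul eqv vec_eq er_eq)

/-- the bracket -/
noncomputable def br (u v : L3) : L3 := adv (adR chevE8 (ZMod 3)) u *ᵥ v

theorem hE8 : chevE8 ∈ [chevG2, chevB2, chevD4, chevF4, chevE6, chevE7, chevE8] := by simp

/-- equivariance -/
theorem mx_br (g : ↥(chevE8.group (ZMod 3))) (u v : L3) : mx g *ᵥ br u v = br (mx g *ᵥ u) (mx g *ᵥ v) := by
  have h := Cfsg.Agent.ChevalleyStructure.JacAll.group_mul_adv chevE8 hE8 (ZMod 3) g.1 g.2 u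
  unfold br
  rw [Matrix.mulVec_mulVec, h, ← Matrix.mulVec_mulVec]

theorem br_add_left (u v w : L3) : br (u + v) w = br u w + br v w := by
  unfold br; rw [adv_add, Matrix.add_mulVec]

theorem br_smul_left (a : ZMod 3) (v w : L3) : br (a • v) w = a • br v w := by
  unfold br; rw [adv_smul, Matrix.smul_mulVec]

theorem br_add_right (u v w : L3) : br u (v + w) = br u v + br u w := by
  unfold br; rw [Matrix.mulVec_add]

theorem br_smul_right (a : ZMod 3) (v w : L3) : br v (a • w) = a • br v w := by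
  unfold br; rw [Matrix.mulVec_smul]

theorem br_zero_left (w : L3) : br 0 w = 0 := by
  unfold br; rw [adv_zero, Matrix.zero_mulVec]

theorem br_zero_right (w : L3) : br w 0 = 0 := by
  unfold br; rw [Matrix.mulVec_zero]

abbrev ky : chevE8.Idx → ℕ := key chevE8

theorem nr : chevE8.nroots = 240 := by decide +kernel

theorem rk : chevE8.rank = 8 := by decide +kernel

theorem ky_lt (x : chevE8.Idx) : ky x < 248 := by
  have h := key_lt chevE8 x
  rw [nr, rk] at h
  exact h

theorem sum_ky (F : ℕ → ZMod 3) : ∑ k ∈ Finset.range 248, F k = ∑ x : chevE8.Idx, F (ky x) := by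
  classical
  have h : Finset.range 248 = Finset.univ.image ky := by
    ext k
    rw [Finset.mem_range, Finset.mem_image]
    constructor
    · intro hk
      obtain ⟨x, hx⟩ := key_surj chevE8 k (by rw [nr, rk]; exact hk)
      exact ⟨x, Finset.mem_univ _, hx⟩
    · rintro ⟨x, -, rfl⟩
      exact ky_lt x
  rw [h, Finset.sum_image fun a _ b _ hab => key_injective chevE8 hab]

/-- the vector as a function on the naturals -/
noncomputable def toN (v : L3) (k : ℕ) : ZMod 3 := ∑ x : chevE8.Idx, if ky x = k then v x else 0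

theorem toN_ky (v : L3) (x : chevE8.Idx) : toN v (ky x) = v x := by
  unfold toN
  rw [Finset.sum_eq_single x, if_pos rfl]
  · intro y _ hy
    rw [if_neg fun h => hy (key_injective chevE8 h)]
  · intro h; exact absurd (Finset.mem_univ _) h

theorem ad_entry (x y z : chevE8.Idx) : adA chevE8 x y z = ce (rbr (rowAt rows (ky x)) (ky z)) (ky y) := by
  have hs : ∀ r < chevE8.nroots, Cfsg.Agent.ChevalleyStructure.Columns.sortedFrom 0 (Cfsg.Agent.ChevalleyStructure.Columns.row chevE8 r) = true := fun r hr =>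
    (Cfsg.Agent.ChevalleyStructure.Good.goodAt_of_mem chevE8 (by simp) r hr).sorted
  have hn : ∀ r < chevE8.nroots, chevE8.neg r ≠ r := fun r hr =>
    (Cfsg.Agent.ChevalleyStructure.Good.goodAt_of_mem chevE8 (by simp) r hr).neg_ne
  have B := bridge_sound chevE8 Rs Hs JacE8.bridge_ok hs
  rw [← AX_eq_adA B hn hs]
  rfl

/-- the state represents the vector -/
def Sem (S : St) (v : ℕ → ZMod 3) (u : L3) : Prop := Pr S ∧ ∀ x, cv S v (ky x) = u x

theorem Sem.ad3 {S T : St} {v : ℕ → ZMod 3} {u w : L3} (h : Sem S v u) (h' : Sem T v w) :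
    Sem (Cfsg.Agent.H738.E83.ad3 S T) v (u + w) :=
  ⟨h.1.ad3 h'.1, fun x => by rw [cv_ad3 h.1 h'.1, h.2, h'.2]; rfl⟩

theorem Sem.ng {S : St} {v : ℕ → ZMod 3} {u : L3} (h : Sem S v u) : Sem (Cfsg.Agent.H738.E83.ng S) v (-u) :=
  ⟨h.1.ng, fun x => by rw [cv_ng, h.2]; rfl⟩

theorem sem_zero (v : ℕ → ZMod 3) : Sem st0 v 0 := ⟨pr_st0, fun x => cv_st0 v _⟩

theorem Sem.brk {S : St} {v : ℕ → ZMod 3} {u : L3} (h : Sem S v u) (x : chevE8.Idx) :
    Sem (Cfsg.Agent.H738.E83.brk rows (ky x) S) v (adR chevE8 (ZMod 3) x *ᵥ u) := by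
  refine ⟨h.1.brk _ _, fun y => ?_⟩
  have e : (adR chevE8 (ZMod 3) x *ᵥ u) y = ∑ z, adR chevE8 (ZMod 3) x y z * u z := by
    rw [Matrix.mulVec, dotProduct]
  rw [cv_brk h.1, sum_ky, e]
  refine Finset.sum_congr rfl fun z _ => ?_
  rw [h.2, ← ad_entry, adR_def, Matrix.map_apply, Int.coe_castRingHom]

/-- the vector of a list with signs -/
def vb (w : List (ℕ × Bool)) : L3 := vec (w.map fun l => (l.1, if l.2 = true then 1 else -1))

theorem vb_cons (l : ℕ × Bool) (w : List (ℕ × Bool)) :
    vb (l :: w) = (if l.2 = true then er l.1 else -er l.1) + vb w := by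
  unfold vb
  rw [List.map_cons, vec_cons]
  congr 1
  split_ifs
  · show ((1 : ℤ) : ZMod 3) • _ = _
    rw [Int.cast_one, one_smul]
  · show ((-1 : ℤ) : ZMod 3) • _ = _
    rw [Int.cast_neg, Int.cast_one, neg_smul, one_smul]

/-- all indices are roots -/
def okw (w : List (ℕ × Bool)) : Bool := w.all fun l => Nat.blt l.1 240

theorem br_er {r : ℕ} (hr : r < chevE8.nroots) (u : L3) : br (er r) u = adR chevE8 (ZMod 3) (Sum.inr ⟨r, hr⟩) *ᵥ u := by
  unfold br
  rw [er_eq hr, adv_single_one]

theorem br_neg_left (u v : L3) : br (-u) v = -br u v := by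
  unfold br; rw [adv_neg, Matrix.neg_mulVec]

theorem Sem.aw {S : St} {v : ℕ → ZMod 3} {u : L3} (h : Sem S v u) {w : List (ℕ × Bool)} (hw : okw w = true) :
    Sem (Cfsg.Agent.H738.E83.aw rows w S) v (br (vb w) u) := by
  induction w with
  | nil =>
    rw [aw_nil]
    have : vb [] = 0 := rfl
    rw [this, br_zero_left]
    exact sem_zero v
  | cons l w ih =>
    unfold okw at hw
    rw [List.all_cons, Bool.and_eq_true] at hw
    have hr : l.1 < chevE8.nroots := by
      rw [nr]; exact Nat.le_of_ble_eq_true hw.1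
    have ih' := ih hw.2
    have h1 := h.brk (Sum.inr ⟨l.1, hr⟩)
    rw [aw_cons, vb_cons, br_add_left]
    refine Sem.ad3 ?_ ih'
    by_cases hl : l.2 = true
    · rw [if_pos hl, if_pos hl, br_er hr]; exact h1
    · rw [if_neg hl, if_neg hl, br_neg_left, br_er hr]; exact h1.ng

/-! ### the generic vector -/

/-- the identity matrix, rows below `n` -/
def idN (n : ℕ) : St := Nat.rec (motive := fun _ => St) st0 (fun i ih => ad3 (pt (Nat.shiftLeft 1 i, 0) i) ih) n

theorem idN_succ (n : ℕ) : idN (n + 1) = ad3 (pt (1 <<< n, 0) n) (idN n) := rfl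

theorem pr_one (n : ℕ) : Pr (1 <<< n, 0) := fun x => by
  show (_ && (0 : ℕ).testBit x) = false
  rw [Nat.zero_testBit, Bool.and_false]

theorem pr_idN (n : ℕ) : Pr (idN n) := by
  induction n with
  | zero => exact pr_st0
  | succ n ih => rw [idN_succ]; exact ((pr_one n).pt n).ad3 ih

theorem vl_one (n j : ℕ) : vl (1 <<< n, 0) j = if j = n then 1 else 0 := by
  unfold vl
  simp only [Nat.zero_testBit, Nat.testBit_shiftLeft]
  have h0 : bt false = 0 := rfl
  have h1 : bt true = 1 := rfl
  rw [h0, sub_zero]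
  by_cases h : j = n
  · subst h
    rw [if_pos rfl]
    simp [h1]
  · rw [if_neg h]
    by_cases h2 : n ≤ j
    · have h3 : ¬ (j - n = 0) := by omega
      have h4 : Nat.testBit 1 (j - n) = false := by
        rw [Bool.eq_false_iff]
        intro h5
        exact h3 (Nat.testBit_one_eq_true_iff_self_eq_zero.1 h5)
      rw [h4, Bool.and_false, h0]
    · simp [h2, h0]

theorem cv_idN (v : ℕ → ZMod 3) {n : ℕ} (hn : n ≤ 248) (i : ℕ) : cv (idN n) v i = if i < n then v i else 0 := by
  induction n with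
  | zero => rw [if_neg (Nat.not_lt_zero i)]; exact cv_st0 v i
  | succ n ih =>
    rw [idN_succ, cv_ad3 ((pr_one n).pt n) (pr_idN n), ih (by omega), cv_pt]
    · by_cases h : i = n
      · subst h
        rw [if_pos rfl, if_neg (lt_irrefl _), if_pos (Nat.lt_succ_self _), add_zero]
        unfold fv
        rw [Finset.sum_eq_single i]
        · rw [vl_one, if_pos rfl, one_mul]
        · intro j _ hj
          rw [vl_one, if_neg hj, zero_mul]
        · intro h1
          exact absurd (Finset.mem_range.2 (by omega)) h1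
      · rw [if_neg h, zero_add]
        by_cases h1 : i < n
        · rw [if_pos h1, if_pos (by omega)]
        · rw [if_neg h1, if_neg (by omega)]
    · intro j hj
      rw [vl_one, if_neg (by omega)]

theorem sem_id (u : L3) : Sem (idN 248) (toN u) u :=
  ⟨pr_idN _, fun x => by rw [cv_idN _ le_rfl, if_pos (ky_lt x), toN_ky]⟩

/-- the zero test -/
def isz (S : St) : Bool := match S with | (p, n) => Nat.beq p 0 && Nat.beq n 0

theorem eq_of_isz {S : St} (h : isz S = true) : S = st0 := by
  obtain ⟨p, n⟩ := S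
  unfold isz at h
  rw [Bool.and_eq_true] at h
  have h1 := Nat.eq_of_beq_eq_true h.1
  have h2 := Nat.eq_of_beq_eq_true h.2
  rw [h1, h2]; rfl

theorem Sem.eq_zero {S : St} {v : ℕ → ZMod 3} {u : L3} (h : Sem S v u) (h0 : isz S = true) : u = 0 := by
  funext x
  rw [← h.2 x, eq_of_isz h0, cv_st0]; rfl

/-! ### explicit vectors -/

/-- the first basis function -/
def d0 : ℕ → ZMod 3 := fun j => if j = 0 then 1 else 0

theorem cv_d0 (S : St) (i : ℕ) : cv S d0 i = vl S (248 * i) := by
  unfold cv
  rw [Finset.sum_eq_single 0]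
  · unfold d0; rw [if_pos rfl, mul_one, add_zero]
  · intro j _ hj
    unfold d0; rw [if_neg hj, mul_zero]
  · intro h; exact absurd (Finset.mem_range.2 (by norm_num)) h

/-- the state of an explicit vector -/
def vs (w : List (ℕ × Bool)) : St :=
  List.rec (motive := fun _ => St) st0
    (fun l _ ih => ad3 (pt (Bool.rec (motive := fun _ => St) (0, 1) (1, 0) l.2) l.1) ih) w

theorem vs_cons (l : ℕ × Bool) (w : List (ℕ × Bool)) :
    vs (l :: w) = ad3 (pt (if l.2 = true then (1, 0) else ng (1, 0)) l.1) (vs w) := by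
  obtain ⟨r, c⟩ := l
  cases c <;> rfl

theorem sem_pt {r : ℕ} (hr : r < 240) : Sem (pt (1, 0) r) d0 (er r) := by
  have h1 : ((1, 0) : St) = (1 <<< 0, 0) := rfl
  rw [h1]
  refine ⟨(pr_one 0).pt r, fun x => ?_⟩
  rw [cv_d0, vl_pt, vl_one]
  rcases x with i | s
  · show _ = (0 : ZMod 3)
    have hk : ky (Sum.inl i) = chevE8.nroots + i.val := rfl
    rw [hk, nr]
    by_cases h : 248 * r ≤ 248 * (240 + i.val)
    · rw [if_pos h, if_neg]
      omega
    · rw [if_neg h]
  · show _ = if s.val = r then (1 : ZMod 3) else 0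
    have hk : ky (Sum.inr s) = s.val := rfl
    rw [hk]
    by_cases h : s.val = r
    · rw [if_pos h, if_pos (by omega), if_pos (by omega)]
    · rw [if_neg h]
      by_cases h2 : 248 * r ≤ 248 * s.val
      · rw [if_pos h2, if_neg (by omega)]
      · rw [if_neg h2]

theorem sem_vs {w : List (ℕ × Bool)} (hw : okw w = true) : Sem (vs w) d0 (vb w) := by
  induction w with
  | nil => exact sem_zero d0
  | cons l w ih =>
    unfold okw at hw
    rw [List.all_cons, Bool.and_eq_true] at hw
    have hr : l.1 < 240 := Nat.le_of_ble_eq_true hw.1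
    have ih' := ih hw.2
    rw [vs_cons, vb_cons]
    refine Sem.ad3 ?_ ih'
    by_cases hl : l.2 = true
    · rw [if_pos hl, if_pos hl]; exact sem_pt hr
    · rw [if_neg hl, if_neg hl]
      have h1 := (sem_pt hr).ng
      have h2 : Cfsg.Agent.H738.E83.ng (pt (1, 0) l.1) = pt (Cfsg.Agent.H738.E83.ng (1, 0)) l.1 := by
        show Cfsg.Agent.H738.E83.ng (pt (1, 0) l.1) = pt (0, 1) l.1
        rw [pt_eq, pt_eq]; rfl
      rw [h2] at h1
      exact h1

/-- a nonzero coordinate in the first column -/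
def nzc (S : St) : Bool :=
  match S with
  | (p, n) => Nat.rec (motive := fun _ => Bool) false
      (fun i ih => Bool.rec (motive := fun _ => Bool) ih true
        (Bool.or (Nat.testBit p (Nat.mul 248 i)) (Nat.testBit n (Nat.mul 248 i)))) 248

theorem exists_of_nzc {S : St} (h : nzc S = true) :
    ∃ i < 248, (S.1.testBit (248 * i) || S.2.testBit (248 * i)) = true := by
  obtain ⟨p, n⟩ := S
  have key : ∀ m : ℕ, (Nat.rec (motive := fun _ => Bool) false
      (fun i ih => Bool.rec (motive := fun _ => Bool) ih true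
        (Bool.or (Nat.testBit p (Nat.mul 248 i)) (Nat.testBit n (Nat.mul 248 i)))) m : Bool) = true →
      ∃ i < m, (p.testBit (248 * i) || n.testBit (248 * i)) = true := by
    intro m
    induction m with
    | zero => intro h1; exact absurd h1 (by simp)
    | succ m ih =>
      intro h1
      cases hb : (p.testBit (248 * m) || n.testBit (248 * m)) with
      | true => exact ⟨m, Nat.lt_succ_self _, hb⟩
      | false =>
        have h2 : (Nat.rec (motive := fun _ => Bool) false
          (fun i ih => Bool.rec (motive := fun _ => Bool) ih true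
            (Bool.or (Nat.testBit p (Nat.mul 248 i)) (Nat.testBit n (Nat.mul 248 i)))) (m + 1) : Bool) =
          Bool.rec (motive := fun _ => Bool) (Nat.rec (motive := fun _ => Bool) false
          (fun i ih => Bool.rec (motive := fun _ => Bool) ih true
            (Bool.or (Nat.testBit p (Nat.mul 248 i)) (Nat.testBit n (Nat.mul 248 i)))) m : Bool) true
            (p.testBit (248 * m) || n.testBit (248 * m)) := rfl
        rw [h2, hb] at h1
        obtain ⟨i, hi, hi'⟩ := ih h1
        exact ⟨i, by omega, hi'⟩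
  exact key 248 h

theorem Sem.ne_zero {S : St} {u : L3} (h : Sem S d0 u) (h0 : nzc S = true) : u ≠ 0 := by
  obtain ⟨i, hi, h1⟩ := exists_of_nzc h0
  obtain ⟨x, hx⟩ := key_surj chevE8 i (by rw [nr, rk]; exact hi)
  intro hu
  have h2 := h.2 x
  have hx' : ky x = i := hx
  rw [hx', cv_d0, hu] at h2
  have h3 : vl S (248 * i) = 0 := h2
  have h4 := h.1 (248 * i)
  unfold vl bt at h3
  revert h1 h3 h4
  cases S.1.testBit (248 * i) <;> cases S.2.testBit (248 * i) <;> decide

end Cfsg.Agent.H738.E83
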